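import Groth.Agent.RelFrob7.Smooth
import Mathlib

/-!
The rank of the relative Frobenius of a smooth algebra.
-/

set_option autoImplicit false
universe u v w

open scoped TensorProduct
open FrobAlg Groth.Agent.RelFrob7
open Groth.Agent.FrobAlg53 (relFrob_tmul)

namespace Groth.Agent.FrobRank31

open MvPolynomial in
/-- The polynomial ring is free of rank `p ^ n` over itself through `X ↦ X ^ p`. -/
theorem exists_basis_expand {σ : Type v} [Finite σ] {R : Type u} [CommRing R] {p : ℕ} (hp : p ≠ 0) :
    Nonempty (Module.Basis (σ → Fin p) (MvPolynomial σ R) (ExpandTarget σ R p)) := by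
  classical
  let P := MvPolynomial σ R
  let Q := ExpandTarget σ R p
  let τ : P ≃+* Q := toTarget (σ := σ) (R := R) (p := p)
  let e : (σ → Fin p) → (σ →₀ ℕ) := fun d => Finsupp.equivFunOnFinite.symm fun i => (d i : ℕ)
  have he : ∀ d i, e d i = (d i : ℕ) := fun d i => rfl
  let v : (σ → Fin p) → Q := fun d => τ (monomial (e d) 1)
  let L : ((σ → Fin p) →₀ P) →ₗ[P] Q := Finsupp.linearCombination P v
  have hL : ∀ l, τ.symm (L l) = l.sum fun d c => expand p c * monomial (e d) 1 := fun l => by
    simp only [L, Finsupp.linearCombination_apply, Finsupp.sum, map_sum, Algebra.smul_def, map_mul]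
    rfl
  have hinj : Function.Injective L := by
    rw [injective_iff_map_eq_zero]
    intro l hl
    ext d m
    rw [Finsupp.coe_zero, Pi.zero_apply, coeff_zero]
    have h0 := congrArg (fun z => coeff (p • m + e d) (τ.symm z)) hl
    simp only [map_zero, coeff_zero, hL, Finsupp.sum] at h0
    rw [MvPolynomial.coeff_sum] at h0
    rw [Finset.sum_eq_single d] at h0
    · rwa [(coeff_expand_mul_monomial hp _ _ _ _ (fun i => by rw [he]; exact (d i).2)
        (fun i => by rw [he]; exact (d i).2)).1 rfl] at h0
    · intro d' _ hd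
      refine (coeff_expand_mul_monomial hp _ _ _ _ (fun i => by rw [he]; exact (d' i).2)
        (fun i => by rw [he]; exact (d i).2)).2 ?_
      exact fun h => hd (funext fun i => Fin.ext (by rw [← he, h, he]))
    · intro hd
      rw [Finsupp.notMem_support_iff.1 hd, map_zero]
      simp
  have hsurj : Function.Surjective L := by
    intro z
    obtain ⟨x, rfl⟩ := τ.surjective z
    induction x using MvPolynomial.induction_on' with
    | monomial n r =>
      refine ⟨Finsupp.single (fun i => ⟨n i % p, Nat.mod_lt _ (Nat.pos_of_ne_zero hp)⟩)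
        (monomial (Finsupp.equivFunOnFinite.symm fun i => n i / p) r), ?_⟩
      rw [← τ.symm.injective.eq_iff, hL, Finsupp.sum_single_index (by rw [map_zero, zero_mul]),
        expand_monomial, monomial_mul, mul_one, RingEquiv.symm_apply_apply]
      refine congrArg (fun n => monomial n r) (Finsupp.ext fun i => ?_)
      simp [he, Nat.div_add_mod]
    | add x y hx hy =>
      obtain ⟨a, ha⟩ := hx
      obtain ⟨b, hb⟩ := hy
      exact ⟨a + b, by rw [map_add, map_add, ha, hb]⟩
  exact ⟨Module.Basis.ofRepr (LinearEquiv.ofBijective L ⟨hinj, hsurj⟩).symm⟩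

variable (p : ℕ) [Fact p.Prime] (A : Type u) [CommRing A] [CharP A p]

theorem exists_basis_mvPolynomial (n : ℕ) [CharP (MvPolynomial (Fin n) A) p] :
    letI := (relFrob p A (MvPolynomial (Fin n) A)).toAlgebra
    Nonempty (Module.Basis (Fin n → Fin p) (BaseChange p A (MvPolynomial (Fin n) A)) (MvPolynomial (Fin n) A)) := by
  let P := MvPolynomial (Fin n) A
  let e : BaseChange p A P ≃+* MvPolynomial (Fin n) A :=
    ((Algebra.TensorProduct.comm A P (Twist p A)).trans
      ((MvPolynomial.algebraTensorAlgEquiv A (Twist p A) (σ := Fin n)).restrictScalars A)).toRingEquiv.trans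
        (MvPolynomial.mapEquiv (Fin n) (toTwist p A).symm)
  have h : ∀ x, relFrob p A P x = MvPolynomial.expand p (e x) := by
    intro x
    induction x using TensorProduct.induction_on with
    | zero => simp
    | tmul b t =>
      rw [relFrob_tmul]
      have he : e (b ⊗ₜ t) = MvPolynomial.C ((toTwist p A).symm t) *
          MvPolynomial.map (frobenius A p) b := by
        simp only [e, RingEquiv.trans_apply, AlgEquiv.coe_ringEquiv, AlgEquiv.trans_apply,
          AlgEquiv.restrictScalars_apply, Algebra.TensorProduct.comm_tmul,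
          MvPolynomial.mapEquiv_apply]
        erw [MvPolynomial.algebraTensorAlgEquiv_tmul]
        rw [MvPolynomial.smul_eq_C_mul, map_mul, MvPolynomial.map_C, MvPolynomial.map_map]
        rfl
      rw [he, map_mul, MvPolynomial.expand_C, ← MvPolynomial.map_expand, MvPolynomial.map_frobenius_expand,
        mul_comm]
      rfl
    | add x y hx hy => simp only [map_add, hx, hy]
  obtain ⟨b⟩ := exists_basis_expand (σ := Fin n) (R := A) (p := p) (Fact.out : p.Prime).ne_zero
  let _ := (relFrob p A P).toAlgebra
  letI := Module.compHom (ExpandTarget (Fin n) A p) e.toRingHom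
  let b' : Module.Basis (Fin n → Fin p) (BaseChange p A P) (ExpandTarget (Fin n) A p) :=
    b.mapCoeffs e.symm fun c x => by
      show e (e.symm c) • x = c • x
      rw [e.apply_symm_apply]
  exact ⟨b'.map
    { (RelFrob7.toTarget (σ := Fin n) (R := A) (p := p)).symm.toAddEquiv with
      map_smul' := fun c x => by
        change (RelFrob7.toTarget (p := p)).symm ((RelFrob7.toTarget (p := p)) (MvPolynomial.expand p (e c)) * x) =
          relFrob p A P c * (RelFrob7.toTarget (p := p)).symm x
        rw [h, map_mul, RingEquiv.symm_apply_apply] }⟩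

variable (B : Type v) [CommRing B] [Algebra A B] [CharP B p]

/-- A basis for the relative Frobenius ascends along étale maps. -/
theorem exists_basis_of_etale (P : Type u) [CommRing P] [Algebra A P] [CharP P p] {ι : Type*}
    (hP : letI := (relFrob p A P).toAlgebra; Nonempty (Module.Basis ι (BaseChange p A P) P))
    [Algebra P B] [IsScalarTower A P B] [Algebra.Etale P B] :
    letI := (relFrob p A B).toAlgebra
    Nonempty (Module.Basis ι (BaseChange p A B) B) := by
  let ψ := IsScalarTower.toAlgHom A P B
  letI algP : Algebra (BaseChange p A P) (Target p A P) :=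
    ((FrobAlg.toTarget p A P).toRingHom.comp (relFrob p A P)).toAlgebra
  letI algC : Algebra (BaseChange p A P) (BaseChange p A B) := (twistMap p A ψ).toRingHom.toAlgebra
  letI algB : Algebra (BaseChange p A P) (Target p A B) :=
    ((FrobAlg.toTarget p A B).toRingHom.comp (ψ.toRingHom.comp (relFrob p A P))).toAlgebra
  haveI : IsScalarTower (BaseChange p A P) (BaseChange p A P) (BaseChange p A B) :=
    IsScalarTower.of_algebraMap_eq' rfl
  let g₁ : BaseChange p A B →ₐ[BaseChange p A P] Target p A B :=
    { (FrobAlg.toTarget p A B).toRingHom.comp (relFrob p A B) with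
      commutes' := fun x => congrArg (FrobAlg.toTarget p A B) (relFrob_twistMap p A ψ x) }
  let g₂ : Target p A P →ₐ[BaseChange p A P] Target p A B :=
    { (FrobAlg.toTarget p A B).toRingHom.comp
        (ψ.toRingHom.comp (FrobAlg.toTarget p A P).symm.toRingHom) with commutes' := fun _ => rfl }
  let g₀ := Algebra.TensorProduct.lift g₁ g₂ fun _ _ => Commute.all _ _
  let g : (BaseChange p A B) ⊗[BaseChange p A P] (Target p A P) →+* B :=
    (FrobAlg.toTarget p A B).symm.toRingHom.comp g₀.toRingHom
  have hg : Function.Bijective g := by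
    let Q := (BaseChange p A B) ⊗[BaseChange p A P] (Target p A P)
    let f : B →+ Twist p P →+ Q := AddMonoidHom.mk'
      (fun c => AddMonoidHom.mk'
        (fun t => ((c ⊗ₜ[A] (1 : Twist p A)) ⊗ₜ[BaseChange p A P] FrobAlg.toTarget p A P ((toTwist p P).symm t) : Q))
        (fun t t' => by rw [map_add, map_add, TensorProduct.tmul_add]))
      (fun c c' => by
        ext t
        simp [TensorProduct.add_tmul])
    let J : BaseChange p P B →+ Q := TensorProduct.liftAddHom f fun x c t => by
      change ((x • c) ⊗ₜ[A] (1 : Twist p A)) ⊗ₜ[BaseChange p A P] FrobAlg.toTarget p A P ((toTwist p P).symm t) =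
        (c ⊗ₜ[A] (1 : Twist p A)) ⊗ₜ[BaseChange p A P] FrobAlg.toTarget p A P ((toTwist p P).symm (x • t))
      have e1 : (x • c) ⊗ₜ[A] (1 : Twist p A) = (x ⊗ₜ[A] (1 : Twist p A) : BaseChange p A P) •
          (c ⊗ₜ[A] (1 : Twist p A) : BaseChange p A B) := by
        rw [Algebra.smul_def, Algebra.smul_def]
        change _ = twistMap p A ψ (x ⊗ₜ 1) * (c ⊗ₜ 1)
        simp [twistMap, ψ]
      rw [e1, TensorProduct.smul_tmul]
      congr 1
      rw [Algebra.smul_def, Algebra.smul_def]
      change FrobAlg.toTarget p A P (relFrob p A P (x ⊗ₜ 1)) * _ = _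
      rw [← map_mul, relFrob_tmul, algebraMap_twist]
      simp
    have hJ : Function.Surjective J := by
      intro q
      induction q using TensorProduct.induction_on with
      | zero => exact ⟨0, map_zero J⟩
      | add x y hx hy =>
        obtain ⟨a, ha⟩ := hx
        obtain ⟨b, hb⟩ := hy
        exact ⟨a + b, by rw [map_add, ha, hb]⟩
      | tmul z q =>
        obtain ⟨q, rfl⟩ := (FrobAlg.toTarget p A P).surjective q
        induction z using TensorProduct.induction_on with
        | zero => exact ⟨0, by rw [map_zero, TensorProduct.zero_tmul]⟩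
        | add x y hx hy =>
          obtain ⟨a, ha⟩ := hx
          obtain ⟨b, hb⟩ := hy
          exact ⟨a + b, by rw [map_add, ha, hb, TensorProduct.add_tmul]⟩
        | tmul c t =>
          refine ⟨c ⊗ₜ[P] toTwist p P (relFrob p A P (1 ⊗ₜ t) * q), ?_⟩
          change (c ⊗ₜ[A] (1 : Twist p A)) ⊗ₜ[BaseChange p A P]
            FrobAlg.toTarget p A P ((toTwist p P).symm (toTwist p P (relFrob p A P (1 ⊗ₜ t) * q))) = _
          rw [RingEquiv.symm_apply_apply, map_mul]
          change (c ⊗ₜ[A] (1 : Twist p A)) ⊗ₜ[BaseChange p A P]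
            ((1 ⊗ₜ t : BaseChange p A P) • FrobAlg.toTarget p A P q) = _
          rw [← TensorProduct.smul_tmul, Algebra.smul_def]
          congr 1
          change twistMap p A ψ (1 ⊗ₜ t) * (c ⊗ₜ 1) = _
          simp [twistMap]
    have hgJ : ∀ z, g (J z) = relFrob p P B z := by
      intro z
      induction z using TensorProduct.induction_on with
      | zero => simp
      | add x y hx hy => simp only [map_add, hx, hy]
      | tmul c t =>
        change g ((c ⊗ₜ[A] (1 : Twist p A)) ⊗ₜ[BaseChange p A P] FrobAlg.toTarget p A P ((toTwist p P).symm t)) = _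
        change relFrob p A B (c ⊗ₜ 1) * ψ ((FrobAlg.toTarget p A P).symm (FrobAlg.toTarget p A P _)) = _
        rw [relFrob_tmul, relFrob_tmul, RingEquiv.symm_apply_apply, map_one, map_one, mul_one]
        rfl
    have hb := FrobAlg53.bijective_relFrob_of_etale p P B
    refine ⟨fun a b hab => ?_, fun y => ?_⟩
    · obtain ⟨a, rfl⟩ := hJ a
      obtain ⟨b, rfl⟩ := hJ b
      rw [hgJ, hgJ] at hab
      rw [hb.1 hab]
    · obtain ⟨z, hz⟩ := hb.2 y
      exact ⟨J z, by rw [hgJ, hz]⟩
  have hg' : ∀ (c : BaseChange p A B) z, g (c • z) = relFrob p A B c * g z := fun c z => by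
    rw [show c • z = (c ⊗ₜ[BaseChange p A P] (1 : Target p A P)) * z from Algebra.smul_def c z, map_mul]
    congr 1
    change (FrobAlg.toTarget p A B).symm (g₀ (c ⊗ₜ 1)) = _
    rw [Algebra.TensorProduct.lift_tmul, map_one, mul_one]
    rfl
  obtain ⟨b⟩ := hP
  let b₁ : Module.Basis ι (BaseChange p A P) (Target p A P) :=
    letI := (relFrob p A P).toAlgebra
    b.map { (FrobAlg.toTarget p A P).toAddEquiv with map_smul' := fun c x => rfl }
  letI := (relFrob p A B).toAlgebra
  exact ⟨(b₁.baseChange (BaseChange p A B)).map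
    { AddEquiv.ofBijective g.toAddMonoidHom hg with
      map_smul' := fun c z => hg' c z }⟩

end Groth.Agent.FrobRank31
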