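import Groth.Agent.FrobRank31.Basis
import Mathlib

/-!
The rank of the relative Frobenius of a smooth algebra, localisation to a standard smooth chart.
-/

set_option autoImplicit false
universe u v w

open scoped TensorProduct
open FrobAlg Groth.Agent.RelFrob7
open Groth.Agent.FrobAlg53 (relFrob_tmul)

namespace Groth.Agent.FrobRank31

variable (p : ℕ) [Fact p.Prime] (A : Type u) [CommRing A] [CharP A p]
  (B : Type u) [CommRing B] [Algebra A B] [CharP B p]

theorem relFrob_comp :
    (relFrob p A B).comp ((algebraMap (Twist p A) (BaseChange p A B)).comp (toTwist p A).toRingHom) =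
      algebraMap A B := by
  refine RingHom.ext fun a => ?_
  show relFrob p A B ((1 : B) ⊗ₜ[A] toTwist p A a) = _
  rw [relFrob_tmul, one_pow, one_mul, RingEquiv.symm_apply_apply]

theorem finiteType_baseChange [Algebra.FiniteType A B] :
    (algebraMap (Twist p A) (BaseChange p A B)).FiniteType :=
  RingHom.finiteType_algebraMap.2
    (Algebra.FiniteType.equiv (inferInstance : Algebra.FiniteType (Twist p A) (Twist p A ⊗[A] B))
      (Algebra.TensorProduct.commRight A (Twist p A) B))

theorem rank_transfer {R R' B L : Type u} [CommRing R] [CommRing R'] [CommRing B] [CommRing L] (p : ℕ)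
    [Fact p.Prime] (f : R →+* B) (φ : R →+* R') (f' : R' →+* L) (j : B →+* L)
    (hcomm : ∀ x, f' (φ x) = j (f x)) (b : B) (c : R) (hc : f c = b ^ p)
    (hφ : letI := φ.toAlgebra; IsLocalization.Away c R') (hj : letI := j.toAlgebra; IsLocalization.Away b L)
    (N : ℕ) (hN : letI := f'.toAlgebra; ∀ q' : PrimeSpectrum R', Module.rankAtStalk (R := R') L q' = N)
    (hfl : letI := f.toAlgebra; Module.Flat R B) (hfi : letI := f.toAlgebra; Module.Finite R B)
    (Q : Ideal B) (hQ : Q.IsPrime) (hb : b ∉ Q) :
    letI := f.toAlgebra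
    Module.rankAtStalk (R := R) B ⟨Q.comap f, inferInstance⟩ = N := by
  letI := f.toAlgebra
  letI := φ.toAlgebra
  letI := f'.toAlgebra
  letI := j.toAlgebra
  letI : Algebra R L := (j.comp f).toAlgebra
  have : Module.Flat R B := hfl
  have : Module.Finite R B := hfi
  have : IsScalarTower R B L := IsScalarTower.of_algebraMap_eq' rfl
  have : IsScalarTower R R' L := IsScalarTower.of_algebraMap_eq fun x => (hcomm x).symm
  have : IsLocalization.Away c R' := hφ
  have : IsLocalization.Away b L := hj
  let S := Submonoid.powers c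
  have hS : Algebra.algebraMapSubmonoid B S = Submonoid.powers (b ^ p) := by
    rw [Algebra.algebraMapSubmonoid, Submonoid.map_powers]
    exact congrArg Submonoid.powers hc
  have hL : IsLocalization (Algebra.algebraMapSubmonoid B S) L := by
    rw [hS]
    refine (IsLocalization.iff_of_le_of_exists_dvd _ (Submonoid.powers b) ?_ ?_).2 inferInstance
    · rintro _ ⟨m, rfl⟩
      exact ⟨p * m, pow_mul b p m⟩
    · rintro _ ⟨m, rfl⟩
      exact ⟨(b ^ p) ^ m, ⟨m, rfl⟩, by rw [← pow_mul]; exact pow_dvd_pow b (Nat.le_mul_of_pos_left m (Fact.out : p.Prime).pos)⟩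
  have hlm : IsLocalizedModule S (IsScalarTower.toAlgHom R B L).toLinearMap :=
    isLocalizedModule_iff_isLocalization.2 hL
  have hbc := IsLocalizedModule.isBaseChange S R' (IsScalarTower.toAlgHom R B L).toLinearMap
  let Q' := Q.map j
  have hd : Disjoint (Submonoid.powers b : Set B) Q := by
    rw [Set.disjoint_left]
    rintro _ ⟨m, rfl⟩ hm
    exact hb (hQ.mem_of_pow_mem m hm)
  have hQ'p : Q'.IsPrime := IsLocalization.isPrime_of_isPrime_disjoint (Submonoid.powers b) L Q hQ hd
  have hQ'Q : Q'.comap j = Q := IsLocalization.under_map_of_isPrime_disjoint (Submonoid.powers b) L hQ hd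
  rw [← hN ⟨Q'.comap f', inferInstance⟩, Module.rankAtStalk_isBaseChange hbc]
  congr 1
  refine PrimeSpectrum.ext ?_
  show Q.comap f = (Q'.comap f').comap φ
  rw [Ideal.comap_comap, show f'.comp φ = j.comp f from RingHom.ext hcomm, ← Ideal.comap_comap, hQ'Q]

theorem isLocalization_twist (b : B) (L : Type u) [CommRing L] [Algebra A L] [Algebra B L] [IsScalarTower A B L]
    [IsLocalization.Away b L] :
    letI := (twistMap p A (IsScalarTower.toAlgHom A B L)).toRingHom.toAlgebra
    IsLocalization.Away (b ⊗ₜ[A] (1 : Twist p A) : BaseChange p A B) (BaseChange p A L) := by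
  letI := (twistMap p A (IsScalarTower.toAlgHom A B L)).toRingHom.toAlgebra
  let R := BaseChange p A B
  let R' := BaseChange p A L
  have : IsScalarTower B R R' := IsScalarTower.of_algebraMap_eq' (RingHom.ext fun c => by
    change (algebraMap B L c) ⊗ₜ[A] (1 : Twist p A) = twistMap p A (IsScalarTower.toAlgHom A B L) (c ⊗ₜ 1)
    simp [twistMap])
  have hpo : Algebra.IsPushout B L R R' := by
    constructor
    refine IsBaseChange.of_equiv
      (TensorProduct.AlgebraTensorModule.cancelBaseChange A B L L (Twist p A)) fun z => ?_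
    induction z using TensorProduct.induction_on with
    | zero => simp
    | tmul c t =>
      rw [TensorProduct.AlgebraTensorModule.cancelBaseChange_tmul]
      change (c • (1 : L)) ⊗ₜ[A] t = twistMap p A (IsScalarTower.toAlgHom A B L) (c ⊗ₜ t)
      simp [twistMap, Algebra.smul_def]
    | add x y hx hy => simp only [TensorProduct.tmul_add, map_add, hx, hy]
  have h := (Algebra.isLocalization_iff_isPushout (Submonoid.powers b) L (T := R) (B := R')).2 hpo.symm
  rwa [Algebra.algebraMapSubmonoid, Submonoid.map_powers] at h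

theorem rankAtStalk_eq [Algebra.Smooth A B] (r : ℕ)
    (hr : ∀ q : PrimeSpectrum B, Module.rankAtStalk (R := B) (KaehlerDifferential A B) q = r) :
    letI := (relFrob p A B).toAlgebra
    Module.Finite (BaseChange p A B) B → ∀ q : PrimeSpectrum (BaseChange p A B), Module.rankAtStalk (R := BaseChange p A B) B q = p ^ r := by
  intro hfin q
  letI := (relFrob p A B).toAlgebra
  have : Module.Finite (BaseChange p A B) B := hfin
  let R := BaseChange p A B
  have hint : Algebra.IsIntegral R B := ⟨fun x => IsIntegral.of_pow (n := p) (Fact.out : p.Prime).pos (by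
    have : relFrob p A B (x ⊗ₜ[A] 1) = x ^ p := by rw [relFrob_tmul, map_one, map_one, mul_one]
    rw [← this]
    exact isIntegral_algebraMap)⟩
  obtain ⟨Q, -, hQp, hQ⟩ := Ideal.exists_ideal_over_prime_of_isIntegral (S := B) q.asIdeal ⊥ (fun x hx => by
    exact q.2.mem_of_pow_mem p ((FrobAlg53.pow_eq_zero_of_relFrob_eq_zero p A B x hx).symm ▸ q.asIdeal.zero_mem))
  obtain ⟨s, hs, hss⟩ := Algebra.Smooth.exists_span_eq_top_isStandardSmooth A B
  obtain ⟨b, hb, hbQ⟩ : ∃ b ∈ s, b ∉ Q := by
    by_contra! h
    exact hQp.ne_top (top_le_iff.1 (hs ▸ Ideal.span_le.2 h))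
  let L := Localization.Away b
  let ψ := IsScalarTower.toAlgHom A B L
  let Q' := Q.map (algebraMap B L)
  have hd : Disjoint (Submonoid.powers b : Set B) Q := by
    rw [Set.disjoint_left]
    rintro _ ⟨m, rfl⟩ hm
    exact hbQ (hQp.mem_of_pow_mem m hm)
  have hQ'p : Q'.IsPrime := IsLocalization.isPrime_of_isPrime_disjoint (Submonoid.powers b) L Q hQp hd
  have hQ'Q : Q'.comap (algebraMap B L) = Q :=
    IsLocalization.under_map_of_isPrime_disjoint (Submonoid.powers b) L hQp hd
  have : Nontrivial L := nontrivial_of_ne 0 1 fun h => hQ'p.ne_top ((Ideal.eq_top_iff_one _).2 (h ▸ Q'.zero_mem))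
  have : CharP L p := (CharP.charP_iff_prime_eq_zero Fact.out).2 (by
    rw [← map_natCast (algebraMap A L), CharP.cast_eq_zero, map_zero])
  obtain ⟨n, g, hgC, hg⟩ :=
    RingHom.IsStandardSmooth.exists_etale_mvPolynomial (RingHom.isStandardSmooth_algebraMap.2 (hss b hb))
  letI := g.toAlgebra
  have : IsScalarTower A (MvPolynomial (Fin n) A) L := IsScalarTower.of_algebraMap_eq' hgC.symm
  have : Algebra.Etale (MvPolynomial (Fin n) A) L := hg
  have : Nontrivial A := CharP.nontrivial_of_char_ne_one (Fact.out : p.Prime).ne_one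
  -- the dimension
  have hn : n = r := by
    have h1 : Module.rankAtStalk (R := L) (KaehlerDifferential A L) ⟨Q', hQ'p⟩ = r := by
      rw [← Module.rankAtStalk_eq_of_equiv (KaehlerDifferential.tensorKaehlerEquivOfFormallyEtale A B L),
        Module.rankAtStalk_baseChange]
      exact hr _
    have h2 : Module.rankAtStalk (R := L) (KaehlerDifferential A L) ⟨Q', hQ'p⟩ = n := by
      rw [← Module.rankAtStalk_eq_of_equiv
        (KaehlerDifferential.tensorKaehlerEquivOfFormallyEtale A (MvPolynomial (Fin n) A) L),
        Module.rankAtStalk_baseChange, Module.rankAtStalk_eq_of_equiv (KaehlerDifferential.mvPolynomialEquiv A (Fin n)),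
        Module.rankAtStalk_eq_finrank_of_free]
      simp
    exact h2.symm.trans h1
  -- the chart
  letI := (relFrob p A L).toAlgebra
  obtain ⟨bas⟩ := exists_basis_of_etale p A L (MvPolynomial (Fin n) A) (exists_basis_mvPolynomial p A n)
  have : Module.Free (BaseChange p A L) L := Module.Free.of_basis bas
  have : Nontrivial (BaseChange p A L) := RingHom.domain_nontrivial (algebraMap (BaseChange p A L) L)
  have hloc := isLocalization_twist p A B b L
  have key := rank_transfer p (relFrob p A B) (twistMap p A ψ).toRingHom (relFrob p A L) (algebraMap B L)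
    (relFrob_twistMap p A ψ) b (b ⊗ₜ[A] 1) (by rw [relFrob_tmul, map_one, map_one, mul_one]) hloc
    (by
      rw [show (algebraMap B L).toAlgebra = (inferInstance : Algebra B L) from Algebra.algebra_ext _ _ fun _ => rfl]
      infer_instance)
    (p ^ r) (fun q' => by
      rw [Module.rankAtStalk_eq_finrank_of_free, Module.finrank_eq_card_basis bas]
      simp [hn]) (flat_relFrob_of_smooth p A B) inferInstance Q hQp hbQ
  exact (congrArg (Module.rankAtStalk (R := BaseChange p A B) B) (PrimeSpectrum.ext hQ.symm)).trans key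

end Groth.Agent.FrobRank31
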